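import Cfsg.Agent.DivisionRing25.Squares

/-!
# A copy of `SL(2,5)` inside a division ring
-/

set_option autoImplicit false
set_option linter.style.haveILetI false
set_option linter.deprecated false

namespace CfsgLib.DivisionRing25

variable {D : Type*} [DivisionRing D]

/-- Images of the standard generators of `SL(2,5)` in a division ring. -/
structure Triple (a b c : D) : Prop where
  mul_eq : a * b = c
  a_cube : a * a * a = -1
  a_ne : a ≠ -1
  b_five : b * b * b * b * b = -1
  b_ne : b ≠ -1
  c_sq : c * c = -1

namespace Triple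

variable {a b c : D} (T : Triple a b c)
include T

theorem a_quad : a * a = a - 1 := by
  have h : (a + 1) * (a * a - a + 1) = 0 := by
    have : (a + 1) * (a * a - a + 1) = a * a * a + 1 := by noncomm_ring
    rw [this, T.a_cube, neg_add_cancel]
  have := (mul_eq_zero.1 h).resolve_left fun e => T.a_ne (eq_neg_of_add_eq_zero_left e)
  rw [← sub_eq_zero, ← this]
  abel

theorem b_eq : b = (1 - a) * c := by
  have h1 : (1 - a) * a = 1 := by rw [sub_mul, one_mul, T.a_quad]; abel
  rw [← T.mul_eq, ← mul_assoc, h1, one_mul]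

theorem b_mul_inv : b * -(c * a) = 1 := by
  have h1 : (1 - a) * a = 1 := by rw [sub_mul, one_mul, T.a_quad]; abel
  rw [T.b_eq, mul_neg, mul_assoc, ← mul_assoc c, T.c_sq, neg_one_mul, mul_neg, neg_neg, h1]

theorem inv_mul_b : -(c * a) * b = 1 := by
  rw [neg_mul, mul_assoc, T.mul_eq, T.c_sq, neg_neg]

end Triple

/-- The element `b + b⁻¹`. -/
def eps (a b c : D) : D := b + -(c * a)

namespace Triple

variable {a b c : D} (T : Triple a b c)
include T

theorem eps_eq : eps a b c = c - (a * c + c * a) := by
  rw [eps, T.b_eq]; noncomm_ring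

theorem eps_comm_c : eps a b c * c = c * eps a b c := by
  rw [T.eps_eq, sub_mul, mul_sub, add_mul, mul_add, mul_assoc a c c, ← mul_assoc c c a, T.c_sq,
    mul_neg, neg_mul, one_mul, mul_one, mul_assoc c a c]
  abel

theorem eps_comm_b : eps a b c * b = b * eps a b c := by
  rw [eps, add_mul, mul_add, T.inv_mul_b, T.b_mul_inv]

theorem eps_comm_a : eps a b c * a = a * eps a b c := by
  have h : a = c * -(c * a) := by rw [mul_neg, ← mul_assoc, T.c_sq, neg_one_mul, neg_neg]
  have h2 : eps a b c * -(c * a) = -(c * a) * eps a b c := by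
    rw [eps, add_mul, mul_add, T.b_mul_inv, T.inv_mul_b]
  calc eps a b c * a = eps a b c * (c * -(c * a)) := by rw [← h]
    _ = c * -(c * a) * eps a b c := by
        rw [← mul_assoc, T.eps_comm_c, mul_assoc, h2, ← mul_assoc]
    _ = a * eps a b c := by rw [← h]

theorem eps_sq : eps a b c * eps a b c = eps a b c + 1 := by
  have h : (b + 1) * (b * b * b * b - b * b * b + b * b - b + 1) = 0 := by
    have : (b + 1) * (b * b * b * b - b * b * b + b * b - b + 1) = b * b * b * b * b + 1 := by
      noncomm_ring
    rw [this, T.b_five, neg_add_cancel]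
  have h0 := (mul_eq_zero.1 h).resolve_left fun e => T.b_ne (eq_neg_of_add_eq_zero_left e)
  have hb : b ≠ 0 := fun e => by
    have := T.b_five
    rw [e, mul_zero] at this
    exact neg_ne_zero.2 one_ne_zero this.symm
  have k : ∀ x : D, b * (-(c * a) * x) = x := fun x => by rw [← mul_assoc, T.b_mul_inv, one_mul]
  rw [← sub_eq_zero]
  refine (mul_eq_zero.1 (?_ : (b * b) * _ = 0)).resolve_left (mul_ne_zero hb hb)
  rw [← h0, eps]
  have h1 := T.b_mul_inv
  have h2 := T.inv_mul_b
  generalize -(c * a) = b' at *
  simp only [mul_add, add_mul, mul_sub, mul_assoc, h1, h2, k, mul_one]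
  abel

/-- Something commuting with `a` and `c` commutes with `b + b⁻¹`. -/
theorem comm_eps {x : D} (ha : x * a = a * x) (hc : x * c = c * x) :
    x * eps a b c = eps a b c * x := by
  have ha' : Commute x a := ha
  have hc' : Commute x c := hc
  rw [T.eps_eq]
  exact (hc'.sub_right ((ha'.mul_right hc').add_right (hc'.mul_right ha'))).eq

theorem exists_j : ∃ j : D, j * j = -1 ∧ j * c = -(c * j) ∧
    ∀ x : D, x * a = a * x → x * c = c * x → x * j = j * x := by
  set e := eps a b c with he_def
  have hee : e * e = e + 1 := T.eps_sq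
  have hec : e * c = c * e := T.eps_comm_c
  have hea : e * a = a * e := T.eps_comm_a
  set u := a + a - 1 with hu_def
  have hanti : u * c + c * u = -(e + e) := by
    rw [hu_def, he_def, T.eps_eq]; noncomm_ring
  have hu2 : u * u = -3 := by
    have : u * u = 4 * (a * a - a) + 1 := by rw [hu_def]; noncomm_ring
    rw [this, T.a_quad, sub_sub_cancel_left]; norm_num
  have heu : Commute e u := by
    rw [hu_def]
    exact ((show Commute e a from hea).add_right hea).sub_right (Commute.one_right e)
  have hec' : Commute e c := hec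
  have hev : Commute e (u - e * c) := heu.sub_right ((Commute.refl e).mul_right hec')
  have hvc : (u - e * c) * c + c * (u - e * c) = 0 := by
    have : (u - e * c) * c + c * (u - e * c) = (u * c + c * u) - e * (c * c) - c * e * c := by
      noncomm_ring
    rw [this, hanti, ← hec, mul_assoc, T.c_sq]; noncomm_ring
  have hv2 : (u - e * c) * (u - e * c) = e - 2 := by
    have h1 : u * (e * c) = e * (u * c) := by rw [← mul_assoc, ← heu.eq, mul_assoc]
    have : (u - e * c) * (u - e * c) =
        u * u - u * (e * c) - e * (c * u) + e * ((c * e) * c) := by noncomm_ring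
    rw [this, h1, hu2, ← hec, mul_assoc e c c, T.c_sq]
    have : (-3 : D) - e * (u * c) - e * (c * u) + e * (e * -1) =
        -3 - e * (u * c + c * u) - e * e := by noncomm_ring
    rw [this, hanti]
    have : (-3 : D) - e * -(e + e) - e * e = -3 + e * e := by noncomm_ring
    rw [this, hee, show (-3 : D) = -2 - 1 by norm_num]
    abel
  refine ⟨e * (u - e * c), ?_, ?_, ?_⟩
  · rw [← mul_assoc, mul_assoc e _ e, ← hev.eq, ← mul_assoc e e, mul_assoc (e * e), hv2, hee]
    have : (e + 1) * (e - 2) = e * e - e - 2 := by
      rw [mul_sub, add_mul, add_mul, one_mul, one_mul, mul_two]; abel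
    rw [this, hee, add_sub_cancel_left]
    norm_num
  · rw [mul_assoc, eq_neg_of_add_eq_zero_left hvc, mul_neg, ← mul_assoc, hec, mul_assoc]
  · intro x ha hc
    have he : Commute x e := T.comm_eps ha hc
    have hu : Commute x u := by
      rw [hu_def]
      exact ((show Commute x a from ha).add_right ha).sub_right (Commute.one_right x)
    exact (he.mul_right (hu.sub_right (he.mul_right hc))).eq

theorem two_eps_sub_one_sq : (eps a b c + eps a b c - 1) * (eps a b c + eps a b c - 1) = 5 := by
  generalize he : eps a b c = e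
  have hee : e * e = e + 1 := he ▸ T.eps_sq
  have : (e + e - 1) * (e + e - 1) = 4 * (e * e - e) + 1 := by noncomm_ring
  rw [this, hee, add_sub_cancel_left]; norm_num

end Triple

/-- Anticommuting square roots of `-1` leave no room for `-n²` to be a sum of three squares. -/
theorem eq_zero_of_three_squares [CharZero D] {c j : D} (hc : c * c = -1) (hj : j * j = -1)
    (hjc : j * c = -(c * j)) {X Y Z : D} {n : ℕ} (hXc : Commute X c) (hXj : Commute X j)
    (hYc : Commute Y c) (hYj : Commute Y j) (hZc : Commute Z c) (hZj : Commute Z j)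
    (hXY : Commute X Y) (hXZ : Commute X Z) (hYZ : Commute Y Z)
    (h : X * X + Y * Y + Z * Z = -((n : D) * n)) : n = 0 := by
  set k := c * j with hk_def
  have hkc : k * c = -(c * k) := by
    rw [hk_def, mul_assoc c j c, hjc, mul_neg]
  have hjk : j * k = -(k * j) := by
    rw [hk_def, ← mul_assoc, hjc, neg_mul]
  have hk : k * k = -1 := by
    have : k * k = c * (j * c) * j := by rw [hk_def]; noncomm_ring
    rw [this, hjc, mul_neg, neg_mul, ← mul_assoc c c j, hc, neg_one_mul, neg_mul, neg_neg, hj]
  set w := X * c + Y * j + Z * k with hw_def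
  have hXk : Commute X k := hXc.mul_right hXj
  have hYk : Commute Y k := hYc.mul_right hYj
  have hZk : Commute Z k := hZc.mul_right hZj
  have hw : w * w = -(X * X + Y * Y + Z * Z) := by
    have e : ∀ {A B p q : D}, Commute B p → A * p * (B * q) = A * B * (p * q) := fun {A B p q} h => by
      rw [mul_assoc A p, ← mul_assoc p B, ← h.eq, mul_assoc B p, ← mul_assoc A B]
    rw [hw_def]
    simp only [add_mul, mul_add, e hXc, e hXj, e hXk, e hYc, e hYj, e hYk, e hZc, e hZj, e hZk]
    rw [hc, hj, hk, ← hk_def, hjc, hkc, hjk, hXY.symm.eq, hXZ.symm.eq, hYZ.symm.eq]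
    noncomm_ring
  have h0 : ((n : D) - w) * (n + w) = 0 := by
    have hnw : (n : D) * w = w * n := (Nat.cast_commute n w).eq
    have : ((n : D) - w) * (n + w) = n * n - w * w + (n * w - w * n) := by noncomm_ring
    rw [this, hnw, sub_self, add_zero, hw, h, neg_neg, sub_self]
  obtain ⟨s, hs⟩ : ∃ s : D, (∀ x, Commute x s) ∧ w = s := by
    rcases mul_eq_zero.1 h0 with h | h
    · exact ⟨n, fun x => (Nat.cast_commute n x).symm, (sub_eq_zero.1 h).symm⟩
    · exact ⟨-n, fun x => (Nat.cast_commute n x).symm.neg_right, eq_neg_of_add_eq_zero_right h⟩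
  have hcw : c * w - w * c = 0 := by rw [hs.2, (hs.1 c).eq, sub_self]
  have hjw : j * w - w * j = 0 := by rw [hs.2, (hs.1 j).eq, sub_self]
  have two : (2 : D) ≠ 0 := two_ne_zero
  have hc0 : c ≠ 0 := fun e => by rw [e, mul_zero] at hc; exact neg_ne_zero.2 one_ne_zero hc.symm
  have hj0 : j ≠ 0 := fun e => by rw [e, mul_zero] at hj; exact neg_ne_zero.2 one_ne_zero hj.symm
  have h1 : Y * j + Z * k = 0 := by
    have e1 : c * w - w * c = 2 * (c * (Y * j + Z * k)) := by
      have : c * w - w * c = (c * X - X * c) * c + (c * Y * j - Y * (j * c)) +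
          (c * Z * k - Z * (k * c)) := by rw [hw_def]; noncomm_ring
      rw [this, hXc.eq, sub_self, zero_mul, zero_add, hjc, hkc, mul_neg, mul_neg, sub_neg_eq_add,
        sub_neg_eq_add, ← mul_assoc Y c, ← mul_assoc Z c, hYc.eq, hZc.eq]
      noncomm_ring
    rw [hcw] at e1
    exact (mul_eq_zero.1 ((mul_eq_zero.1 e1.symm).resolve_left two)).resolve_left hc0
  have h2 : X * c + Z * k = 0 := by
    have e1 : j * w - w * j = 2 * (j * (X * c + Z * k)) := by
      have : j * w - w * j = (j * X * c - X * (c * j)) + (j * Y - Y * j) * j +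
          (j * Z * k - Z * (k * j)) := by rw [hw_def]; noncomm_ring
      rw [this, hYj.eq, sub_self, zero_mul, add_zero,
        show c * j = -(j * c) by rw [hjc, neg_neg],
        show k * j = -(j * k) by rw [hjk, neg_neg], mul_neg, mul_neg, sub_neg_eq_add,
        sub_neg_eq_add, ← mul_assoc X j, ← mul_assoc Z j, hXj.eq, hZj.eq]
      noncomm_ring
    rw [hjw] at e1
    exact (mul_eq_zero.1 ((mul_eq_zero.1 e1.symm).resolve_left two)).resolve_left hj0
  have h3 : w = X * c := by rw [hw_def, add_assoc, h1, add_zero]
  have hX : X = 0 := by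
    have e1 : j * w - w * j = 2 * (j * (X * c)) := by
      rw [h3, mul_assoc X c j, show c * j = -(j * c) by rw [hjc, neg_neg], mul_neg,
        sub_neg_eq_add, ← mul_assoc j X, ← mul_assoc X j, hXj.eq]
      noncomm_ring
    rw [hjw] at e1
    have := (mul_eq_zero.1 ((mul_eq_zero.1 e1.symm).resolve_left two)).resolve_left hj0
    exact (mul_eq_zero.1 this).resolve_right hc0
  have hw0 : w = 0 := by rw [h3, hX, zero_mul]
  have : (n : D) * n = 0 := by
    have := congrArg (fun z => -z) h
    simp only [neg_neg] at this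
    rw [← this, ← hw, hw0, mul_zero]
  exact_mod_cast mul_self_eq_zero.1 this

/-- A root of unity of prime order at least `7` cannot centralize a copy of `SL(2,5)`. -/
theorem not_commute_rootOfUnity [CharZero D] {a b c : D} (T : Triple a b c) {l : ℕ}
    (hlp : l.Prime) (hl : 7 ≤ l) {η : D} (hη : η ^ l = 1) (hη1 : η ≠ 1)
    (ha : η * a = a * η) : η * c ≠ c * η := by
  intro hc
  obtain ⟨j, hj, hjc, hjx⟩ := T.exists_j
  set e := eps a b c
  let R : Subring D := Subring.closure {η, e}
  have hcen : R ≤ Subring.centralizer {c, j} := by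
    rw [Subring.closure_le]
    rintro x (rfl | rfl) <;> rw [SetLike.mem_coe, Subring.mem_centralizer_iff] <;>
      rintro y (rfl | rfl)
    · exact hc.symm
    · exact (hjx _ ha hc).symm
    · exact T.eps_comm_c.symm
    · exact (hjx _ T.eps_comm_a T.eps_comm_c).symm
  have hηe : η * e = e * η := T.comm_eps ha hc
  letI : CommRing R := Subring.closureCommRingOfComm (by
    rintro x (rfl | rfl) y (rfl | rfl)
    exacts [rfl, hηe, hηe.symm, rfl])
  haveI : IsDomain R := Function.Injective.isDomain R.subtype Subtype.val_injective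
  let η' : R := ⟨η, Subring.subset_closure (Set.mem_insert _ _)⟩
  let e' : R := ⟨e, Subring.subset_closure (Set.mem_insert_of_mem _ rfl)⟩
  obtain ⟨n, X, Y, Z, hn, h⟩ := exists_three_squares (R := R) hlp hl (η := η')
    (Subtype.val_injective (by rw [SubmonoidClass.coe_pow]; exact hη))
    (fun e1 => hη1 (congrArg Subtype.val e1)) (r := e' + e' - 1)
    (Subtype.val_injective (by
      rw [SubmonoidClass.coe_pow, sq]
      exact T.two_eps_sub_one_sq))
  refine hn (eq_zero_of_three_squares T.c_sq hj hjc (X := (X : D)) (Y := (Y : D)) (Z := (Z : D))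
    ?_ ?_ ?_ ?_ ?_ ?_ (congrArg Subtype.val (mul_comm X Y)) (congrArg Subtype.val (mul_comm X Z))
    (congrArg Subtype.val (mul_comm Y Z)) ?_)
  iterate 3
    · exact ((Subring.mem_centralizer_iff.1 (hcen (SetLike.coe_mem _))) c (Or.inl rfl)).symm
    · exact ((Subring.mem_centralizer_iff.1 (hcen (SetLike.coe_mem _))) j (Or.inr rfl)).symm
  · have := congrArg R.subtype h
    simpa [sq] using this

/-- The outer automorphism of `SL(2,5)` is not induced by an element of square `-1`. -/
theorem not_anticommute [CharZero D] {a b c : D} (T : Triple a b c) {g : D} (hg : g * g = -1)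
    (hge : g * eps a b c = (1 - eps a b c) * g) : False := by
  set r := eps a b c + eps a b c - 1 with hr_def
  have hr : r * r = 5 := T.two_eps_sub_one_sq
  have hgr : g * r = -(r * g) := by
    rw [hr_def, mul_sub, mul_add, hge]; noncomm_ring
  have hw : (g + g + r) * (g + g + r) = 1 := by
    have : (g + g + r) * (g + g + r) = 4 * (g * g) + 2 * (g * r + r * g) + r * r := by
      noncomm_ring
    rw [this, hg, hgr, neg_add_cancel, hr]; norm_num
  have hcomm : g * r = r * g := by
    rcases mul_self_eq_one_iff.1 hw with h | h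
    all_goals
      rw [eq_sub_of_add_eq' h]
      noncomm_ring
  have h2 : (2 : D) * (r * g) = 0 := by
    rw [two_mul]
    nth_rewrite 1 [← hcomm]
    rw [hgr, neg_add_cancel]
  rcases mul_eq_zero.1 ((mul_eq_zero.1 h2).resolve_left two_ne_zero) with h | h
  · rw [h, mul_zero] at hr; norm_num at hr
  · rw [h, mul_zero] at hg; exact neg_ne_zero.2 one_ne_zero hg.symm

/-- An element commuting with a square root of `-1` and squaring to `-1` is `± c`. -/
theorem eq_or_eq_neg_of_commute {c g : D} (hc : c * c = -1) (hg : g * g = -1)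
    (h : g * c = c * g) : g = c ∨ g = -c := by
  have : (g - c) * (g + c) = 0 := by
    rw [sub_mul, mul_add, mul_add, hc, hg, h]; abel
  rcases mul_eq_zero.1 this with h' | h'
  · exact Or.inl (sub_eq_zero.1 h')
  · exact Or.inr (eq_neg_of_add_eq_zero_left h')

end CfsgLib.DivisionRing25
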