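import Mathlib

/-!
# Generating pairs of `SL(2,5)` of type `(3,5,2)`
-/

set_option autoImplicit false
set_option maxRecDepth 10000

namespace CfsgLib.DivisionRing25

/-- `SL(2,5)`. -/
abbrev SL25 := Matrix.SpecialLinearGroup (Fin 2) (ZMod 5)

/-- The element `-1`. -/
def negI : SL25 := ⟨!![4, 0; 0, 4], by decide +kernel⟩

/-- An element whose cube is `-1`. -/
def elA : SL25 := ⟨!![0, 1; 4, 1], by decide +kernel⟩

/-- An element whose fifth power is `-1`, with `(A B)² = -1`. -/
def elB : SL25 := ⟨!![4, 4; 0, 4], by decide +kernel⟩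

/-- The image of `B` under the outer automorphism fixing `A`. -/
def elB2 : SL25 := ⟨!![3, 3; 3, 0], by decide +kernel⟩

theorem negI_ne_one : negI ≠ 1 := by decide +kernel
theorem negI_mul_self : negI * negI = 1 := by decide +kernel
theorem eq_negI_of_mul_self : ∀ X : SL25, X * X = 1 → X = 1 ∨ X = negI := by decide +kernel

theorem elA_cube : elA ^ 3 = negI := by decide +kernel
theorem elA_ne : elA ≠ negI := by decide +kernel
theorem elB_five : elB ^ 5 = negI := by decide +kernel
theorem elB_ne : elB ≠ negI := by decide +kernel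
theorem elAB_sq : (elA * elB) * (elA * elB) = negI := by decide +kernel
theorem elB2_conj :
    elB2 * (elB * elB * elA * elA) = elB * elB * elA * elA * elB ^ 3 ∧
      elB2⁻¹ * (elB * elB * elA * elA) = elB * elB * elA * elA * (elB⁻¹) ^ 3 := by
  constructor <;> decide +kernel

theorem elB2_eq :
    elB2 = elB * elB * elA * elA * elB ^ 3 * (elB * elB * elA * elA)⁻¹ := by
  decide +kernel

theorem elB_eq :
    elB2 * elB2 * elA * elA * elB2 ^ 3 * (elB2 * elB2 * elA * elA)⁻¹ = elB := by
  decide +kernel

theorem exists_conj_elA : ∀ X : SL25, X ^ 3 = negI → X ≠ negI → ∃ s : SL25, s * X = elA * s := by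
  decide +kernel

theorem exists_conj_elB : ∀ Y : SL25, Y ^ 5 = negI → Y ≠ negI →
    (elA * Y) * (elA * Y) = negI →
    ∃ s : SL25, s * elA = elA * s ∧ (s * Y = elB * s ∨ s * Y = elB2 * s) := by
  decide +kernel

theorem central_of_commute : ∀ X : SL25, X * elA = elA * X → X * elB = elB * X →
    X = 1 ∨ X = negI := by
  decide +kernel

/-- Every automorphism of `SL(2,5)` is an inner one followed by the identity or by the outer
automorphism, as seen on `A` and `B`. -/
theorem exists_normal_form (σ : SL25 ≃* SL25) : ∃ s : SL25, s * σ elA = elA * s ∧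
    (s * σ elB = elB * s ∨ s * σ elB = elB2 * s) := by
  have hσ : σ negI = negI := by
    refine (eq_negI_of_mul_self _ (by rw [← map_mul, negI_mul_self, map_one])).resolve_left ?_
    intro h
    exact negI_ne_one (σ.injective (h.trans (map_one σ).symm))
  have hA : σ elA ≠ negI := fun h => elA_ne (σ.injective (h.trans hσ.symm))
  have hB : σ elB ≠ negI := fun h => elB_ne (σ.injective (h.trans hσ.symm))
  obtain ⟨s, hs⟩ := exists_conj_elA (σ elA) (by rw [← map_pow, elA_cube, hσ]) hA
  let τ : SL25 ≃* SL25 := σ.trans (MulAut.conj s)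
  have hτn : τ negI = negI := by
    refine (eq_negI_of_mul_self _ (by rw [← map_mul, negI_mul_self, map_one])).resolve_left ?_
    intro h
    exact negI_ne_one (τ.injective (h.trans (map_one τ).symm))
  have hτA : τ elA = elA := by
    show s * σ elA * s⁻¹ = elA
    rw [hs, mul_inv_cancel_right]
  obtain ⟨z, hz1, hz2⟩ := exists_conj_elB (τ elB) (by rw [← map_pow, elB_five, hτn])
    (fun h => elB_ne (τ.injective (h.trans hτn.symm)))
    (by rw [← hτA, ← map_mul, ← map_mul, elAB_sq, hτn])
  have key : z * s * σ elB = z * τ elB * s := by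
    show z * s * σ elB = z * (s * σ elB * s⁻¹) * s
    group
  refine ⟨z * s, by rw [mul_assoc, hs, ← mul_assoc, hz1, mul_assoc], ?_⟩
  rcases hz2 with h | h
  · exact Or.inl (by rw [key, h, mul_assoc])
  · exact Or.inr (by rw [key, h, mul_assoc])

end CfsgLib.DivisionRing25
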