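import Mathlib

/-!
# Minus one as a sum of three squares

In a commutative domain of characteristic zero containing `√5` and a root of unity of prime
order `ℓ ≥ 7`, some nonzero `-n²` is a sum of three squares.
-/

set_option autoImplicit false
set_option linter.style.haveILetI false

namespace CfsgLib.DivisionRing25

open Polynomial Finset

section Gauss

variable {m : ℕ} [Fact m.Prime]

/-- The nonzero squares of `ZMod m`. -/
noncomputable def squareSet (m : ℕ) [Fact m.Prime] : Finset (ZMod m) :=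
  Finset.univ.filter fun r => quadraticChar (ZMod m) r = 1

theorem mem_squareSet {r : ZMod m} : r ∈ squareSet m ↔ quadraticChar (ZMod m) r = 1 := by
  simp [squareSet]

/-- `∏ (T - [r])` over the nonzero squares `r`, in the group ring of `ZMod m` over `ℤ[T]`. -/
noncomputable def squareProd (m : ℕ) [Fact m.Prime] : AddMonoidAlgebra ℤ[X] (ZMod m) :=
  ∏ r ∈ squareSet m, (AddMonoidAlgebra.single 0 X - AddMonoidAlgebra.single r 1)

theorem squareProd_invariant {q : ZMod m} (hq : q ∈ squareSet m) :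
    AddMonoidAlgebra.mapDomainRingHom ℤ[X] (AddMonoidHom.mulLeft q) (squareProd m) =
      squareProd m := by
  have hq0 : q ≠ 0 := fun h => by
    rw [mem_squareSet, h, quadraticChar_zero] at hq; exact zero_ne_one hq
  rw [squareProd, map_prod]
  refine Finset.prod_nbij' (fun r => q * r) (fun r => q⁻¹ * r) ?_ ?_
    (fun r _ => inv_mul_cancel_left₀ hq0 r) (fun r _ => mul_inv_cancel_left₀ hq0 r) ?_
  · intro r hr
    rw [mem_squareSet] at *
    rw [map_mul, hq, hr, one_mul]
  · intro r hr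
    rw [mem_squareSet] at *
    have h1 : quadraticChar (ZMod m) q⁻¹ * quadraticChar (ZMod m) q = 1 := by
      rw [← map_mul, inv_mul_cancel₀ hq0, map_one]
    rw [hq, mul_one] at h1
    rw [map_mul, h1, hr, one_mul]
  · intro r _
    simp [map_sub]

theorem coeff_squareProd_smul {q : ZMod m} (hq : q ∈ squareSet m) (x : ZMod m) :
    (squareProd m).coeff (q * x) = (squareProd m).coeff x := by
  have hq0 : q ≠ 0 := fun h => by
    rw [mem_squareSet, h, quadraticChar_zero] at hq; exact zero_ne_one hq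
  conv_lhs => rw [← squareProd_invariant hq]
  exact Finsupp.mapDomain_apply (mul_right_injective₀ hq0) _ x

/-- Evaluation of the group ring at an additive character. -/
noncomputable def charEval (ψ : AddChar (ZMod m) ℂ) : AddMonoidAlgebra ℤ[X] (ZMod m) →+* ℂ[X] :=
  AddMonoidAlgebra.liftNCRingHom (mapRingHom (Int.castRingHom ℂ))
    ((C : ℂ →+* ℂ[X]).toMonoidHom.comp ψ.toMonoidHom) fun _ _ => Commute.all _ _

theorem charEval_single (ψ : AddChar (ZMod m) ℂ) (x : ZMod m) (p : ℤ[X]) :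
    charEval ψ (AddMonoidAlgebra.single x p) = p.map (Int.castRingHom ℂ) * C (ψ x) := by
  simp [charEval]

theorem charEval_eq_sum (ψ : AddChar (ZMod m) ℂ) (f : AddMonoidAlgebra ℤ[X] (ZMod m)) :
    charEval ψ f = ∑ x, (f.coeff x).map (Int.castRingHom ℂ) * C (ψ x) := by
  induction f using AddMonoidAlgebra.induction_linear with
  | zero => simp
  | add a b ha hb => simp [ha, hb, add_mul, Finset.sum_add_distrib]
  | single y p =>
    rw [charEval_single, Finset.sum_eq_single y]
    · simp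
    · intro x _ hx
      simp [hx]
    · simp

theorem charEval_squareProd (ψ : AddChar (ZMod m) ℂ) :
    charEval ψ (squareProd m) = ∏ r ∈ squareSet m, (X - C (ψ r)) := by
  rw [squareProd, map_prod]
  refine Finset.prod_congr rfl fun r _ => ?_
  rw [map_sub, charEval_single, charEval_single]
  simp

/-- The quadratic character of `ZMod m` with complex values. -/
noncomputable def quadChar (m : ℕ) [Fact m.Prime] : MulChar (ZMod m) ℂ :=
  (quadraticChar (ZMod m)).ringHomComp (Int.castRingHom ℂ)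

theorem quadChar_neg_one (hm : m % 4 = 3) : quadraticChar (ZMod m) (-1) = -1 := by
  rw [quadraticChar_neg_one_iff_not_isSquare, ZMod.exists_sq_eq_neg_one_iff]
  omega

theorem two_smul_charEval_squareProd (hm : m % 4 = 3) {ψ : AddChar (ZMod m) ℂ}
    (hψ : ψ.IsPrimitive) :
    2 * charEval ψ (squareProd m) =
      ((2 * (squareProd m).coeff 0 - (squareProd m).coeff 1 -
          (squareProd m).coeff (-1)).map (Int.castRingHom ℂ)) +
        C (gaussSum (quadChar m) ψ) *
          ((squareProd m).coeff 1 - (squareProd m).coeff (-1)).map (Int.castRingHom ℂ) := by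
  set P := squareProd m
  set F : ZMod m → ℂ[X] := fun x => (P.coeff x).map (Int.castRingHom ℂ) with hF
  have hsum : ∑ x, C (ψ x) = 0 := by
    rw [← map_sum, AddChar.sum_eq_zero_of_ne_one, map_zero]
    have := hψ one_ne_zero
    rwa [AddChar.mulShift_one] at this
  have key : ∀ x, 2 * (F x * C (ψ x)) = (F 1 + F (-1)) * C (ψ x) +
      (F 1 - F (-1)) * C (quadChar m x * ψ x) +
      (if x = 0 then 2 * F 0 - F 1 - F (-1) else 0) := by
    intro x
    by_cases hx : x = 0
    · subst hx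
      simp [quadChar, MulChar.map_zero]
    rw [if_neg hx, add_zero]
    rcases quadraticChar_dichotomy hx with h | h
    · have : F x = F 1 := by
        have := coeff_squareProd_smul (mem_squareSet.2 h) 1
        rw [mul_one] at this
        simp only [hF, P, this]
      rw [this]
      simp [quadChar, h]
      ring
    · have : F x = F (-1) := by
        have hq : -x ∈ squareSet m := by
          rw [mem_squareSet, neg_eq_neg_one_mul, map_mul, quadChar_neg_one hm, h]; norm_num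
        have := coeff_squareProd_smul hq (-1)
        rw [neg_mul_neg, mul_one] at this
        simp only [hF, P, this]
      rw [this]
      simp [quadChar, h]
      ring
  rw [charEval_eq_sum, Finset.mul_sum, Finset.sum_congr rfl fun x _ => key x,
    Finset.sum_add_distrib, Finset.sum_add_distrib, ← Finset.mul_sum, ← Finset.mul_sum, hsum,
    mul_zero, zero_add, ← map_sum, Finset.sum_ite_eq' Finset.univ 0]
  simp only [hF, Finset.mem_univ, if_true, Polynomial.map_sub, Polynomial.map_mul,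
    Polynomial.map_ofNat, gaussSum]
  ring

theorem prod_squareSet_mul_prod_neg (hm : m % 4 = 3) {ψ : AddChar (ZMod m) ℂ}
    (hψ : ψ.IsPrimitive) :
    (∏ r ∈ squareSet m, (X - C (ψ r))) * ∏ r ∈ squareSet m, (X - C (ψ (-r))) =
      ∑ i ∈ Finset.range m, (X : ℂ[X]) ^ i := by
  have hmp : m.Prime := Fact.out
  have hne : ψ ≠ 1 := by
    have := hψ one_ne_zero
    rwa [AddChar.mulShift_one] at this
  have hpow : ∀ x : ZMod m, ψ x = ψ 1 ^ x.val := fun x => by
    rw [← AddChar.map_nsmul_eq_pow, nsmul_one, ZMod.natCast_zmod_val]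
  have hζ : IsPrimitiveRoot (ψ 1) m := by
    have h1 : ψ 1 ^ m = 1 := by
      rw [← AddChar.map_nsmul_eq_pow, nsmul_one, ZMod.natCast_self, AddChar.map_zero_eq_one]
    have h2 : ψ 1 ≠ 1 := fun h => hne (DFunLike.ext _ _ fun x => by
      rw [hpow, h, one_pow, AddChar.one_apply])
    rw [IsPrimitiveRoot.iff_orderOf]
    exact orderOf_eq_prime h1 h2
  have hall : (X : ℂ[X]) ^ m - 1 = ∏ x : ZMod m, (X - C (ψ x)) := by
    rw [← C_1, X_pow_sub_C_eq_prod hζ hmp.pos (one_pow m)]
    refine Finset.prod_nbij' (fun i => (i : ZMod m)) (fun x => x.val) (fun _ _ => mem_univ _)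
      (fun x _ => mem_range.2 (ZMod.val_lt x))
      (fun i hi => ZMod.val_natCast_of_lt (mem_range.1 hi)) (fun x _ => ZMod.natCast_zmod_val x)
      fun i hi => ?_
    rw [hpow (i : ZMod m), ZMod.val_natCast_of_lt (mem_range.1 hi), mul_one]
  rw [← Finset.mul_prod_erase _ _ (mem_univ (0 : ZMod m)), AddChar.map_zero_eq_one, C_1] at hall
  have hX : (X : ℂ[X]) - 1 ≠ 0 := by
    rw [← C_1]; exact X_sub_C_ne_zero 1
  refine mul_left_cancel₀ hX ?_
  rw [mul_geom_sum, hall]
  congr 1
  rw [← Finset.prod_filter_mul_prod_filter_not (univ.erase (0 : ZMod m))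
    (fun r => quadraticChar (ZMod m) r = 1)]
  congr 1
  · refine Finset.prod_congr ?_ fun _ _ => rfl
    ext r
    simp only [mem_squareSet, mem_filter, mem_erase, mem_univ, and_true]
    refine ⟨fun h => ⟨fun h0 => ?_, h⟩, fun h => h.2⟩
    rw [h0, quadraticChar_zero] at h
    exact zero_ne_one h
  · refine Finset.prod_nbij' (fun r => -r) (fun r => -r) ?_ ?_
      (fun r _ => neg_neg r) (fun r _ => neg_neg r) fun r _ => rfl
    · intro r hr
      rw [mem_squareSet] at hr
      rw [mem_filter, mem_erase]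
      have h1 : quadraticChar (ZMod m) (-r) = -1 := by
        rw [neg_eq_neg_one_mul, map_mul, quadChar_neg_one hm, hr, mul_one]
      refine ⟨⟨fun h0 => ?_, mem_univ _⟩, by rw [h1]; norm_num⟩
      rw [h0, quadraticChar_zero] at h1
      norm_num at h1
    · intro r hr
      rw [mem_filter, mem_erase] at hr
      rw [mem_squareSet, neg_eq_neg_one_mul, map_mul, quadChar_neg_one hm]
      rcases quadraticChar_dichotomy hr.1.1 with h | h
      · exact absurd h hr.2
      · rw [h]; norm_num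

/-- Gauss: `4 (1 + T + ⋯ + T^(m-1)) = Y² + m Z²` for a prime `m ≡ 3 (mod 4)`. -/
theorem exists_gauss_identity (m : ℕ) (hmp : m.Prime) (hm : m % 4 = 3) :
    ∃ Y Z : ℤ[X], 4 * ∑ i ∈ Finset.range m, X ^ i = Y ^ 2 + (m : ℤ[X]) * Z ^ 2 := by
  haveI := Fact.mk hmp
  have hm2 : ringChar (ZMod m) ≠ 2 := by rw [ZMod.ringChar_zmod_n]; omega
  set ψ : AddChar (ZMod m) ℂ := ZMod.stdAddChar
  have hψ : ψ.IsPrimitive := ZMod.isPrimitive_stdAddChar m
  have hψ' : (ψ.mulShift (-1)).IsPrimitive := fun a ha => by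
    rw [AddChar.mulShift_mulShift]
    exact hψ (mul_ne_zero (neg_ne_zero.2 one_ne_zero) ha)
  set g : ℂ := gaussSum (quadChar m) ψ with hg_def
  have hχ : quadChar m (-1) = -1 := by simp [quadChar, quadChar_neg_one hm]
  have hg' : gaussSum (quadChar m) (ψ.mulShift (-1)) = -g := by
    have := gaussSum_mulShift (quadChar m) ψ (-1 : (ZMod m)ˣ)
    rw [Units.val_neg, Units.val_one, hχ, ← hg_def] at this
    linear_combination -this
  have hgg : g ^ 2 = -(m : ℂ) := by
    rw [hg_def, gaussSum_sq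
      (χ := quadChar m) ((MulChar.ringHomComp_ne_one_iff (f := Int.castRingHom ℂ) Int.cast_injective).2 (quadraticChar_ne_one hm2))
      ((quadraticChar_isQuadratic (ZMod m)).comp _) hψ, hχ, ZMod.card]
    ring
  refine ⟨2 * (squareProd m).coeff 0 - (squareProd m).coeff 1 - (squareProd m).coeff (-1),
    (squareProd m).coeff 1 - (squareProd m).coeff (-1),
    map_injective (Int.castRingHom ℂ) Int.cast_injective ?_⟩
  have e1 := two_smul_charEval_squareProd hm hψ
  have e2 := two_smul_charEval_squareProd hm hψ'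
  rw [charEval_squareProd] at e1 e2
  rw [hg', C_neg] at e2
  rw [← hg_def] at e1
  have e3 := prod_squareSet_mul_prod_neg hm hψ
  simp only [AddChar.mulShift_apply, neg_one_mul] at e2
  have e4 : C g ^ 2 = -(m : ℂ[X]) := by rw [← C_pow, hgg, C_neg, C_eq_natCast]
  simp only [Polynomial.map_sum, Polynomial.map_mul, Polynomial.map_ofNat, Polynomial.map_pow,
    map_X, Polynomial.map_add, Polynomial.map_natCast]
  generalize ∏ r ∈ squareSet m, (X - C (ψ r)) = A at e1 e3
  generalize ∏ r ∈ squareSet m, (X - C (ψ (-r))) = B at e2 e3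
  generalize Polynomial.map (Int.castRingHom ℂ)
    (2 * (squareProd m).coeff 0 - (squareProd m).coeff 1 - (squareProd m).coeff (-1)) = Y at *
  generalize Polynomial.map (Int.castRingHom ℂ)
    ((squareProd m).coeff 1 - (squareProd m).coeff (-1)) = Z at *
  linear_combination (2 * B) * e1 + (Y + C g * Z) * e2 - 4 * e3 - Z ^ 2 * e4

end Gauss

/-- Thue's argument: `2m = x² + 5 y²` for a prime `m ≡ 7 (mod 20)`. -/
theorem exists_two_mul_eq (m : ℕ) (hmp : m.Prime) (hm : m % 20 = 7) :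
    ∃ x y : ℤ, 2 * (m : ℤ) = x ^ 2 + 5 * y ^ 2 := by
  haveI := Fact.mk hmp
  haveI : Fact (Nat.Prime 5) := ⟨by norm_num⟩
  have hneg : ¬ IsSquare (-1 : ZMod m) := by rw [ZMod.exists_sq_eq_neg_one_iff]; omega
  have hfive : ¬ IsSquare ((5 : ℕ) : ZMod m) := by
    rw [← ZMod.exists_sq_eq_prime_iff_of_mod_four_eq_one (p := 5) (q := m) (by norm_num)
      (by omega)]
    rw [show ((m : ℕ) : ZMod 5) = 2 by
      rw [← ZMod.natCast_mod m 5, show m % 5 = 2 by omega]; rfl]
    rintro ⟨r, hr⟩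
    exact (by decide : ∀ r : Fin 5, (2 : Fin 5) ≠ r * r) r hr
  have hs : IsSquare (-5 : ZMod m) := by
    have h5 : ((5 : ℕ) : ZMod m) ≠ 0 := fun h => hfive (h ▸ IsSquare.zero)
    have h1 := ((quadraticChar_neg_one_iff_not_isSquare (a := (-1 : ZMod m)))).2 hneg
    have h2 := ((quadraticChar_neg_one_iff_not_isSquare (a := ((5 : ℕ) : ZMod m)))).2 hfive
    rw [show (-5 : ZMod m) = -1 * ((5 : ℕ) : ZMod m) by push_cast; ring]
    rw [← quadraticChar_one_iff_isSquare (mul_ne_zero (by simp) h5), map_mul, h1, h2]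
    norm_num
  obtain ⟨s, hs⟩ := hs
  set w := Nat.sqrt m
  have hw1 : w * w ≤ m := Nat.sqrt_le m
  have hw2 : m < (w + 1) * (w + 1) := Nat.lt_succ_sqrt m
  have hw3 : w * w ≠ m := fun h => hmp.not_isSquare ⟨w, h.symm⟩
  have hcard : Fintype.card (ZMod m) < Fintype.card (Fin (w + 1) × Fin (w + 1)) := by
    simpa using hw2
  obtain ⟨⟨a, b⟩, ⟨a', b'⟩, hne, heq⟩ := Fintype.exists_ne_map_eq_of_card_lt
    (fun p : Fin (w + 1) × Fin (w + 1) => (p.1.val : ZMod m) - s * (p.2.val : ZMod m)) hcard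
  simp only at heq
  set x : ℤ := (a.val : ℤ) - a'.val with hx_def
  set y : ℤ := (b.val : ℤ) - b'.val with hy_def
  have hdvd : (m : ℤ) ∣ x ^ 2 + 5 * y ^ 2 := by
    rw [← ZMod.intCast_zmod_eq_zero_iff_dvd]
    have hxy : (x : ZMod m) = s * (y : ZMod m) := by
      simp only [hx_def, hy_def]; push_cast; linear_combination heq
    push_cast
    rw [hxy]
    linear_combination (-(y : ZMod m) ^ 2) * hs
  obtain ⟨k, hk⟩ := hdvd
  have hxw : x ^ 2 ≤ (w : ℤ) ^ 2 := by
    refine sq_le_sq' ?_ ?_ <;> simp only [hx_def] <;> omega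
  have hyw : y ^ 2 ≤ (w : ℤ) ^ 2 := by
    refine sq_le_sq' ?_ ?_ <;> simp only [hy_def] <;> omega
  have hlt : (w : ℤ) ^ 2 < (m : ℤ) := by
    rw [sq]; exact_mod_cast lt_of_le_of_ne hw1 hw3
  have hpos : 0 < x ^ 2 + 5 * y ^ 2 := by
    rcases eq_or_ne x 0 with hx | hx
    · rcases eq_or_ne y 0 with hy | hy
      · exfalso
        refine hne (Prod.ext (Fin.ext ?_) (Fin.ext ?_))
        · show a.val = a'.val
          simp only [hx_def] at hx; omega
        · show b.val = b'.val
          simp only [hy_def] at hy; omega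
      · positivity
    · positivity
  have hm0 : (0 : ℤ) < m := by exact_mod_cast hmp.pos
  have hk1 : 0 < k := by nlinarith
  have hk6 : k < 6 := by nlinarith
  have hmod : ((m : ℤ) : ZMod 4) = 3 := by
    rw [Int.cast_natCast, ← ZMod.natCast_mod m 4, show m % 4 = 3 by omega]; rfl
  have h4 := congrArg (fun z : ℤ => (z : ZMod 4)) hk
  push_cast at h4
  rw [Int.cast_natCast] at hmod
  rw [hmod] at h4
  obtain rfl | rfl | rfl | rfl | rfl : k = 1 ∨ k = 2 ∨ k = 3 ∨ k = 4 ∨ k = 5 := by omega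
  · exfalso
    exact (by decide : ∀ u v : ZMod 4, u ^ 2 + 5 * v ^ 2 ≠ 3 * 1) _ _ (by simpa using h4)
  · exact ⟨x, y, by linarith⟩
  · -- `x² + 5 y² = 3 m`
    have h3 := congrArg (fun z : ℤ => (z : ZMod 3)) hk
    push_cast at h3
    rw [show (3 : ZMod 3) = 0 from rfl, mul_zero] at h3
    obtain ⟨y', hy', hxy'⟩ : ∃ y', y' ^ 2 = y ^ 2 ∧ (x : ZMod 3) = (y' : ℤ) := by
      rcases (by decide : ∀ u v : ZMod 3, u ^ 2 + 5 * v ^ 2 = 0 → u = v ∨ u = -v) _ _ h3 with h | h
      · exact ⟨y, rfl, h⟩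
      · exact ⟨-y, neg_sq y, by push_cast; exact h⟩
    rw [ZMod.intCast_eq_intCast_iff_dvd_sub] at hxy'
    obtain ⟨t, ht⟩ := hxy'
    push_cast at ht
    refine ⟨2 * x + 5 * t, -t, ?_⟩
    have e : y' = x + 3 * t := by linarith
    subst e
    nlinarith
  · exfalso
    obtain ⟨hu, hv⟩ : ((x : ZMod 4) = 0 ∨ (x : ZMod 4) = 2) ∧ ((y : ZMod 4) = 0 ∨ (y : ZMod 4) = 2) :=
      (by decide : ∀ u v : ZMod 4, u ^ 2 + 5 * v ^ 2 = 3 * 4 → (u = 0 ∨ u = 2) ∧ (v = 0 ∨ v = 2))
        _ _ (by simpa using h4)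
    have he : ∀ z : ℤ, ((z : ZMod 4) = 0 ∨ (z : ZMod 4) = 2) → ∃ z', z = 2 * z' := by
      intro z hz
      refine ⟨z / 2, ?_⟩
      rcases hz with h | h
      · rw [ZMod.intCast_zmod_eq_zero_iff_dvd] at h; omega
      · rw [show (2 : ZMod 4) = ((2 : ℤ) : ZMod 4) by norm_num,
          ZMod.intCast_eq_intCast_iff_dvd_sub] at h; omega
    obtain ⟨x', hx'⟩ := he x hu
    obtain ⟨y', hy'⟩ := he y hv
    rw [hx', hy'] at hk
    have h1 : x' ^ 2 + 5 * y' ^ 2 = (m : ℤ) := by nlinarith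
    have h5 := congrArg (fun z : ℤ => (z : ZMod 4)) h1
    push_cast at h5
    rw [hmod] at h5
    exact (by decide : ∀ u v : ZMod 4, u ^ 2 + 5 * v ^ 2 ≠ 3) _ _ h5
  · exfalso
    exact (by decide : ∀ u v : ZMod 4, u ^ 2 + 5 * v ^ 2 ≠ 3 * 5) _ _ (by simpa using h4)

/-- A prime `m ≡ 7 (mod 20)` with `m ^ ((ℓ - 1) / 2) ≡ -1 (mod ℓ)`. -/
theorem exists_prime_seven_mod_twenty (l : ℕ) [Fact l.Prime] (hl : 7 ≤ l) :
    ∃ m : ℕ, m.Prime ∧ m % 20 = 7 ∧ ((m : ZMod l)) ^ (l / 2) = -1 := by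
  have hlp : l.Prime := Fact.out
  obtain ⟨g, hg⟩ := FiniteField.exists_nonsquare (F := ZMod l)
    (by rw [ZMod.ringChar_zmod_n]; omega)
  have hg0 : g ≠ 0 := fun h => hg (h ▸ IsSquare.zero)
  have hco : Nat.Coprime 20 l := by
    refine (hlp.coprime_iff_not_dvd.2 fun h => ?_).symm
    rw [show (20 : ℕ) = 2 * 2 * 5 from rfl] at h
    rcases hlp.dvd_mul.1 h with h | h
    · rcases hlp.dvd_mul.1 h with h | h <;> have := Nat.le_of_dvd (by norm_num) h <;> omega
    · have := Nat.le_of_dvd (by norm_num) h; omega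
  obtain ⟨a, ha1, ha2⟩ := Nat.chineseRemainder hco 7 g.val
  haveI : NeZero (20 * l) := ⟨by omega⟩
  have ha : IsUnit (a : ZMod (20 * l)) := by
    rw [ZMod.isUnit_iff_coprime, Nat.coprime_mul_iff_right]
    constructor
    · rw [Nat.Coprime, ha1.gcd_eq]; rfl
    · rw [Nat.Coprime, ha2.gcd_eq]
      exact ZMod.val_coe_unit_coprime (IsUnit.unit (isUnit_iff_ne_zero.2 hg0))
  obtain ⟨m, -, hmp, hm⟩ := Nat.forall_exists_prime_gt_and_eq_mod ha 0
  rw [ZMod.natCast_eq_natCast_iff] at hm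
  refine ⟨m, hmp, by simpa [Nat.ModEq] using (hm.of_mul_right l).trans ha1, ?_⟩
  rw [(ZMod.natCast_eq_natCast_iff _ _ _).2 ((hm.of_mul_left 20).trans ha2),
    ZMod.natCast_zmod_val]
  rcases ZMod.pow_div_two_eq_neg_one_or_one l hg0 with h | h
  · exact absurd ((ZMod.euler_criterion l hg0).2 h) hg
  · exact h

/-- In a domain of characteristic zero with `√5` and a root of unity of prime order `ℓ ≥ 7`,
some nonzero `-n²` is a sum of three squares. -/
theorem exists_three_squares {R : Type*} [CommRing R] [IsDomain R] {l : ℕ} (hlp : l.Prime)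
    (hl : 7 ≤ l) {η : R} (hη : η ^ l = 1) (hη1 : η ≠ 1) {r : R} (hr : r ^ 2 = 5) :
    ∃ (n : ℕ) (X Y Z : R), n ≠ 0 ∧ X ^ 2 + Y ^ 2 + Z ^ 2 = -(n : R) ^ 2 := by
  haveI := Fact.mk hlp
  obtain ⟨m, hmp, hm20, hmk⟩ := exists_prime_seven_mod_twenty l hl
  obtain ⟨t, u, htu⟩ := exists_two_mul_eq m hmp hm20
  obtain ⟨Y, Z, hYZ⟩ := exists_gauss_identity m hmp (by omega)
  set k := l / 2
  let S : R → R := fun z => ∑ i ∈ Finset.range m, z ^ i
  have hS : ∀ z : R, ∃ A B : R, 4 * S z = A ^ 2 + (m : R) * B ^ 2 := by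
    intro z
    refine ⟨aeval z Y, aeval z Z, ?_⟩
    have := congrArg (aeval z) hYZ
    simpa [S, map_sum, map_ofNat] using this
  have hP : ∀ i : ℕ, (η - 1) * ∏ j ∈ Finset.range i, S (η ^ m ^ j) = η ^ m ^ i - 1 := by
    intro i
    induction i with
    | zero => simp
    | succ i ih =>
      rw [Finset.prod_range_succ, ← mul_assoc, ih, mul_comm, geom_sum_mul, ← pow_mul, ← pow_succ]
  have hmul : ∀ i : ℕ, ∃ A B : R,
      ∏ j ∈ Finset.range i, 4 * S (η ^ m ^ j) = A ^ 2 + (m : R) * B ^ 2 := by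
    intro i
    induction i with
    | zero => exact ⟨1, 0, by simp⟩
    | succ i ih =>
      obtain ⟨A, B, hAB⟩ := ih
      obtain ⟨A', B', hAB'⟩ := hS (η ^ m ^ i)
      exact ⟨A * A' - m * B * B', A * B' + B * A', by
        rw [Finset.prod_range_succ, hAB, hAB']; ring⟩
  obtain ⟨A, B, hAB⟩ := hmul k
  rw [Finset.prod_mul_distrib, Finset.prod_const, Finset.card_range] at hAB
  have hord : η ^ m ^ k = η ^ (l - 1) := by
    refine pow_eq_pow_of_modEq ?_ hη
    rw [← ZMod.natCast_eq_natCast_iff, Nat.cast_pow, hmk,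
      Nat.cast_sub (by omega), ZMod.natCast_self, Nat.cast_one, zero_sub]
  have hPk : η * ∏ j ∈ Finset.range k, S (η ^ m ^ j) = -1 := by
    refine mul_left_cancel₀ (sub_ne_zero.2 hη1) ?_
    rw [mul_left_comm, hP, hord, mul_sub, ← pow_succ', show l - 1 + 1 = l by omega, hη]
    ring
  obtain ⟨c, hc⟩ := hlp.odd_of_ne_two (by omega)
  set h := η ^ (c + 1)
  have hh : h ^ 2 = η := by
    rw [← pow_mul, show (c + 1) * 2 = l + 1 by omega, pow_succ, hη, one_mul]
  refine ⟨2 ^ (k + 1), 2 * h * A, ((t : R) + r * u) * (h * B), ((t : R) - r * u) * (h * B),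
    pow_ne_zero _ two_ne_zero, ?_⟩
  have htu' : 2 * (m : R) = (t : R) ^ 2 + 5 * (u : R) ^ 2 := by
    have := congrArg (fun z : ℤ => (z : R)) htu
    push_cast at this
    exact this
  generalize ∏ j ∈ Finset.range k, S (η ^ m ^ j) = P at hPk hAB
  have h4 : ((2 : R) ^ k) ^ 2 = 4 ^ k := by rw [← pow_mul, mul_comm, pow_mul]; norm_num
  push_cast
  rw [pow_succ (2 : R) k, mul_pow ((2 : R) ^ k), h4]
  linear_combination (-4 * h ^ 2) * hAB + (-2 * (h * B) ^ 2) * htu' +
    (4 * 4 ^ k * P) * hh + (4 * 4 ^ k) * hPk + (2 * (u : R) ^ 2 * (h * B) ^ 2) * hr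

end CfsgLib.DivisionRing25
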